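import Cfsg.Agent.Lib.Fi23Aut62.Ops
import Cfsg.Agent.Lib.CosetTable.Sound

/-! Kernel checks for the data of `Lib.Fi23Aut62`. -/

set_option Elab.async false
set_option maxRecDepth 10000

namespace Cfsg.Agent.Lib.Fi23Aut62

open Cfsg.Agent.Lib.CosetTable

theorem candB_ok_run1 : rangeAll (candOK 1 cycB exB yB) 800 0 = true := by decide +kernel

theorem candB_ok_run2 : rangeAll (candOK 1 cycB exB yB) 800 800 = true := by decide +kernel

theorem candB_ok_run3 : rangeAll (candOK 1 cycB exB yB) 800 1600 = true := by decide +kernel

theorem candB_ok_run4 : rangeAll (candOK 1 cycB exB yB) 800 2400 = true := by decide +kernel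

theorem candB_ok_run5 : rangeAll (candOK 1 cycB exB yB) 800 3200 = true := by decide +kernel

theorem candB_ok_run6 : rangeAll (candOK 1 cycB exB yB) 800 4000 = true := by decide +kernel

theorem candB_ok_run7 : rangeAll (candOK 1 cycB exB yB) 800 4800 = true := by decide +kernel

theorem candB_ok_run8 : rangeAll (candOK 1 cycB exB yB) 800 5600 = true := by decide +kernel

theorem candB_ok_run9 : rangeAll (candOK 1 cycB exB yB) 800 6400 = true := by decide +kernel

theorem candB_ok_run10 : rangeAll (candOK 1 cycB exB yB) 800 7200 = true := by decide +kernel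

theorem candB_ok_run11 : rangeAll (candOK 1 cycB exB yB) 800 8000 = true := by decide +kernel

theorem candB_ok_run12 : rangeAll (candOK 1 cycB exB yB) 800 8800 = true := by decide +kernel

theorem candB_ok_run13 : rangeAll (candOK 1 cycB exB yB) 800 9600 = true := by decide +kernel

theorem candB_ok_run14 : rangeAll (candOK 1 cycB exB yB) 800 10400 = true := by decide +kernel

theorem candB_ok_run15 : rangeAll (candOK 1 cycB exB yB) 800 11200 = true := by decide +kernel

theorem candB_ok_run16 : rangeAll (candOK 1 cycB exB yB) 800 12000 = true := by decide +kernel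

theorem candB_ok_run17 : rangeAll (candOK 1 cycB exB yB) 800 12800 = true := by decide +kernel

theorem candB_ok_run18 : rangeAll (candOK 1 cycB exB yB) 800 13600 = true := by decide +kernel

theorem candB_ok_run19 : rangeAll (candOK 1 cycB exB yB) 800 14400 = true := by decide +kernel

theorem candB_ok_run20 : rangeAll (candOK 1 cycB exB yB) 800 15200 = true := by decide +kernel

theorem candB_ok_run21 : rangeAll (candOK 1 cycB exB yB) 800 16000 = true := by decide +kernel

theorem candB_ok_run22 : rangeAll (candOK 1 cycB exB yB) 800 16800 = true := by decide +kernel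

theorem candB_ok_run23 : rangeAll (candOK 1 cycB exB yB) 800 17600 = true := by decide +kernel

theorem candB_ok_run24 : rangeAll (candOK 1 cycB exB yB) 800 18400 = true := by decide +kernel

theorem candB_ok_run25 : rangeAll (candOK 1 cycB exB yB) 800 19200 = true := by decide +kernel

theorem candB_ok_run26 : rangeAll (candOK 1 cycB exB yB) 800 20000 = true := by decide +kernel

theorem candB_ok_run27 : rangeAll (candOK 1 cycB exB yB) 800 20800 = true := by decide +kernel

theorem candB_ok_run28 : rangeAll (candOK 1 cycB exB yB) 800 21600 = true := by decide +kernel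

theorem candB_ok_run29 : rangeAll (candOK 1 cycB exB yB) 800 22400 = true := by decide +kernel

theorem candB_ok_run30 : rangeAll (candOK 1 cycB exB yB) 800 23200 = true := by decide +kernel

theorem candB_ok_run31 : rangeAll (candOK 1 cycB exB yB) 800 24000 = true := by decide +kernel

theorem candB_ok_run32 : rangeAll (candOK 1 cycB exB yB) 800 24800 = true := by decide +kernel

theorem candB_ok_run33 : rangeAll (candOK 1 cycB exB yB) 800 25600 = true := by decide +kernel

theorem candB_ok_run34 : rangeAll (candOK 1 cycB exB yB) 800 26400 = true := by decide +kernel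

theorem candB_ok_run35 : rangeAll (candOK 1 cycB exB yB) 800 27200 = true := by decide +kernel

theorem candB_ok_run36 : rangeAll (candOK 1 cycB exB yB) 800 28000 = true := by decide +kernel

theorem candB_ok_run37 : rangeAll (candOK 1 cycB exB yB) 800 28800 = true := by decide +kernel

theorem candB_ok_run38 : rangeAll (candOK 1 cycB exB yB) 800 29600 = true := by decide +kernel

theorem candB_ok_run39 : rangeAll (candOK 1 cycB exB yB) 800 30400 = true := by decide +kernel

theorem candB_ok_run40 : rangeAll (candOK 1 cycB exB yB) 471 31200 = true := by decide +kernel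

theorem candB_ok : Below (candOK 1 cycB exB yB) 31671 :=
  (((((((((((((((((((((((((((((((((((((((((Below.zero _).step (b := 800) candB_ok_run1 rfl).step (b := 1600) candB_ok_run2 rfl).step (b := 2400) candB_ok_run3 rfl).step (b := 3200) candB_ok_run4 rfl).step (b := 4000) candB_ok_run5 rfl).step (b := 4800) candB_ok_run6 rfl).step (b := 5600) candB_ok_run7 rfl).step (b := 6400) candB_ok_run8 rfl).step (b := 7200) candB_ok_run9 rfl).step (b := 8000) candB_ok_run10 rfl).step (b := 8800) candB_ok_run11 rfl).step (b := 9600) candB_ok_run12 rfl).step (b := 10400) candB_ok_run13 rfl).step (b := 11200) candB_ok_run14 rfl).step (b := 12000) candB_ok_run15 rfl).step (b := 12800) candB_ok_run16 rfl).step (b := 13600) candB_ok_run17 rfl).step (b := 14400) candB_ok_run18 rfl).step (b := 15200) candB_ok_run19 rfl).step (b := 16000) candB_ok_run20 rfl).step (b := 16800) candB_ok_run21 rfl).step (b := 17600) candB_ok_run22 rfl).step (b := 18400) candB_ok_run23 rfl).step (b := 19200) candB_ok_run24 rfl).step (b := 20000) candB_ok_run25 rfl).step (b := 20800) candB_ok_run26 rfl).step (b := 21600) candB_ok_run27 rfl).step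 (b := 22400) candB_ok_run28 rfl).step (b := 23200) candB_ok_run29 rfl).step (b := 24000) candB_ok_run30 rfl).step (b := 24800) candB_ok_run31 rfl).step (b := 25600) candB_ok_run32 rfl).step (b := 26400) candB_ok_run33 rfl).step (b := 27200) candB_ok_run34 rfl).step (b := 28000) candB_ok_run35 rfl).step (b := 28800) candB_ok_run36 rfl).step (b := 29600) candB_ok_run37 rfl).step (b := 30400) candB_ok_run38 rfl).step (b := 31200) candB_ok_run39 rfl).step (b := 31671) candB_ok_run40 rfl)

theorem cycB_ok : cycOK 1 cB cycB (sgt 1 cB) = true := by decide +kernel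

theorem exB_ok : allL (fun e => exT (sgt 1) cB e) exB = true := by decide +kernel

theorem progB_ok : progOK progB (cB :: cycB.map Prod.fst) = true := by decide +kernel

theorem goodB_ok : goodOK 1 cB gB yB = true := by decide +kernel

theorem wit_ok : rangeAll witOK wit.length 0 = true := by decide +kernel

theorem kill1_ok : allL (killOK 1) (gB.zip kill1) = true := by decide +kernel

theorem kill5_ok : allL (killOK 5) (gB.zip kill5) = true := by decide +kernel

theorem kill_length : kill1.length = gB.length ∧ kill5.length = gB.length := ⟨rfl, rfl⟩

theorem path_ok : rangeAll pathOK 10 0 = true := by decide +kernel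

theorem u_ok : uOK = true := by decide +kernel

end Cfsg.Agent.Lib.Fi23Aut62
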