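import Cfsg.Agent.Lib.Fi23Aut62.Twin
import Cfsg.Agent.Lib.Fi23Aut62.CheckCandA
import Cfsg.Agent.Lib.Fi23Aut62.CheckCandB
import Cfsg.Prelude.Def_KGroupFacts

/-!
Every automorphism of the presented group Fi23 is inner.

After composing with inner automorphisms an automorphism sends `se 0` (order 23) to its first or
fifth power and fixes `se 1`; then `se 2` has one of 44 images, and all but the trivial
possibility violate a relation between the three elements, which generate the group.
-/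

namespace Cfsg.Agent.Lib.Fi23Aut62

open Cfsg.Agent.Lib.CosetTable

/-- the subgroup generated by the first three special elements -/
noncomputable def threeGen : Subgroup G := Subgroup.closure {se 0, se 1, se 2}

theorem se_mem_threeGen {a : ℕ} (ha : a < 3) : se a ∈ threeGen := by
  refine Subgroup.subset_closure ?_
  have : a = 0 ∨ a = 1 ∨ a = 2 := by omega
  rcases this with rfl | rfl | rfl <;> simp

theorem threeGen_eq_top : threeGen = ⊤ := by
  have hu := u_ok
  simp only [uOK, andB_eq, Bool.and_eq_true, blt_iff] at hu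
  obtain ⟨hul, hy, hub⟩ := hu
  have hu3 : ∀ a ∈ uW, a < 3 := fun a ha => blt_iff.mp (allL_spec hul a ha)
  have hd : d y0 = eval se uW := eq_of_base fun b hb => by
    have hb' : b < 31671 := by omega
    rw [pt_evalS (fun a ha => by have := hu3 a ha; omega) hb', ← dv_spec hy hb',
      beq_iff.mp (rangeAll_spec hub b (Nat.zero_le _) (by omega))]
  have h0 : d y0 ∈ threeGen := hd ▸ eval_mem se _ fun a ha => se_mem_threeGen (hu3 a ha)
  rw [eq_top_iff, ← S1697.model_act.gen, Subgroup.closure_le]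
  rintro _ ⟨s, hs, rfl⟩
  have hs' : s < 10 := hs
  have hp := rangeAll_spec path_ok s (Nat.zero_le _) (by omega)
  simp only [pathOK, andB_eq, Bool.and_eq_true, beq_iff] at hp
  have hl : ∀ a ∈ paths.getD s [], a < 3 := fun a ha => blt_iff.mp (allL_spec hp.1 a ha)
  have hP : eval se (paths.getD s []) ∈ threeGen :=
    eval_mem se _ fun a ha => se_mem_threeGen (hl a ha)
  have hd' := d_smul (eval se (paths.getD s [])) hy
  rw [pt_evalS (fun a ha => by have := hl a ha; omega) hy, hp.2,
    (qs_spec (by omega : s < 14)).2, gv_eq_gn hs'] at hd'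
  rw [SetLike.mem_coe, hd']
  exact threeGen.mul_mem (threeGen.mul_mem hP h0) (threeGen.inv_mem hP)

theorem eval_cons (f : ℕ → G) (a : ℕ) (w : List ℕ) : eval f (a :: w) = eval f w * f a := rfl

theorem eval_flatMap (f : ℕ → List ℕ) : ∀ w : List ℕ,
    eval se (w.flatMap f) = eval (fun a => eval se (f a)) w
  | [] => rfl
  | a :: w => by rw [List.flatMap_cons, eval_append, eval_flatMap f w]; rfl

theorem map_eval' (ψ : G ≃* G) (f : ℕ → G) : ∀ w : List ℕ,
    ψ (eval f w) = eval (fun a => ψ (f a)) w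
  | [] => map_one ψ
  | a :: w => by rw [eval_cons, map_mul, map_eval' ψ f w]; rfl

theorem eval_replicate (a : ℕ) : ∀ i, eval se (List.replicate i a) = se a ^ i
  | 0 => (pow_zero _).symm
  | i + 1 => by rw [List.replicate_succ, eval_cons, eval_replicate a i, pow_succ]

theorem se0_pow : se 0 ^ 23 = 1 := by
  rw [← eval_replicate]
  exact eqS_spec (v := []) (by decide +kernel)

theorem se0_ne : se 0 ≠ 1 := fun h => by
  have h1 : sgt 0 cA = cA := by rw [← pt_se (by norm_num) (by decide), h, pt_one]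
  exact absurd (beq_iff.mpr h1) (by decide +kernel)

theorem order_se0 : orderOf (se 0) = 23 := by
  haveI : Fact (Nat.Prime 23) := ⟨by norm_num⟩
  exact orderOf_eq_prime se0_pow se0_ne

theorem se1_conj : se 1 * se 0 = se 0 * se 0 * se 1 := by
  have h : [1] ∈ gA := by decide
  have := goodA_ok
  simp only [goodOK, andB_eq, Bool.and_eq_true] at this
  have h2 := eqS_spec (allL_spec this.2 [1] h)
  simpa [eval] using h2

theorem se2_conj : se 2 * se 1 = se 1 * se 1 * se 2 := by
  have h : [2] ∈ gB := by decide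
  have := goodB_ok
  simp only [goodOK, andB_eq, Bool.and_eq_true] at this
  have h2 := eqS_spec (allL_spec this.2 [2] h)
  simpa [eval] using h2

theorem zpowers_conj (y : G) (hy : orderOf y = 23) :
    ∃ h : G, ∃ k : ℕ, h * y * h⁻¹ = se 0 ^ k := by
  haveI : Fact (Nat.Prime 23) := ⟨by norm_num⟩
  have hf : (Nat.card G).factorization 23 = 1 := by
    rw [card_G, show (4089470473293004800 : ℕ) = 23 * 177803064056217600 by norm_num,
      Nat.factorization_mul (by norm_num) (by norm_num), Finsupp.add_apply,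
      Nat.Prime.factorization_self (by norm_num),
      Nat.factorization_eq_zero_of_not_dvd (by norm_num)]
  let P : Sylow 23 G := Sylow.ofCard (Subgroup.zpowers (se 0))
    (by rw [Nat.card_zpowers, order_se0, hf, pow_one])
  let Q : Sylow 23 G := Sylow.ofCard (Subgroup.zpowers y)
    (by rw [Nat.card_zpowers, hy, hf, pow_one])
  obtain ⟨h, hh⟩ := MulAction.exists_smul_eq G Q P
  have hm : h * y * h⁻¹ ∈ (P : Subgroup G) := by
    rw [← hh, Sylow.smul_def, Sylow.pointwise_smul_def]
    refine Subgroup.mem_pointwise_smul_iff_inv_smul_mem.mpr ?_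
    rw [← map_inv]
    show h⁻¹ * (h * y * h⁻¹) * h⁻¹⁻¹ ∈ Subgroup.zpowers y
    simp [mul_assoc]
  obtain ⟨k, hk⟩ := (mem_powers_iff_mem_zpowers (x := se 0)).mpr hm
  exact ⟨h, k, hk.symm⟩

theorem mult_table : ∀ k : Fin 23, k.val ≠ 0 →
    ∃ j : Fin 11, 2 ^ j.val * k.val % 23 = 1 ∨ 2 ^ j.val * k.val % 23 = 5 := by decide

theorem conj_pow_two (m : ℕ) : ∀ j : ℕ,
    se 1 ^ j * se 0 ^ m * (se 1 ^ j)⁻¹ = se 0 ^ (2 ^ j * m)
  | 0 => by simp
  | j + 1 => by
    have h : SemiconjBy (se 1) (se 0) (se 0 * se 0) := se1_conj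
    have h' : se 1 * se 0 ^ (2 ^ j * m) * (se 1)⁻¹ = se 0 ^ (2 ^ (j + 1) * m) := by
      rw [(h.pow_right _).eq, mul_inv_cancel_right, ← pow_two, ← pow_mul]
      rw [show 2 * (2 ^ j * m) = 2 ^ (j + 1) * m by ring]
    calc se 1 ^ (j + 1) * se 0 ^ m * (se 1 ^ (j + 1))⁻¹
        = se 1 * (se 1 ^ j * se 0 ^ m * (se 1 ^ j)⁻¹) * (se 1)⁻¹ := by
          rw [pow_succ']; group
      _ = _ := by rw [conj_pow_two m j, h']

theorem conj_pow_pow {i k : ℕ} : se 0 ^ i * se 0 ^ k * (se 0 ^ i)⁻¹ = se 0 ^ k := by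
  rw [← pow_add, add_comm, pow_add, mul_inv_cancel_right]

/-- every automorphism becomes trivial after composition with an inner one -/
theorem exists_normalised (ψ : MulAut G) : ∃ h : G, ∃ k : ℕ, (k = 1 ∨ k = 5) ∧
    (MulAut.conj h * ψ) (se 0) = se 0 ^ k ∧ (MulAut.conj h * ψ) (se 1) = se 1 := by
  obtain ⟨h₁, k, hk⟩ := zpowers_conj (ψ (se 0)) (by rw [MulEquiv.orderOf_eq, order_se0])
  have hmod : ∀ m, se 0 ^ m = se 0 ^ (m % 23) := fun m => by
    rw [← order_se0, pow_mod_orderOf]
  have hk0 : k % 23 ≠ 0 := fun e => by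
    rw [hmod k, e, pow_zero, conj_eq_one_iff] at hk
    exact se0_ne (ψ.map_eq_one_iff.mp hk)
  obtain ⟨j, hj⟩ := mult_table ⟨k % 23, Nat.mod_lt _ (by norm_num)⟩ hk0
  set h₂ := se 1 ^ (j : ℕ) * h₁ with hh₂
  obtain ⟨k', hk', e0⟩ : ∃ k', (k' = 1 ∨ k' = 5) ∧ h₂ * ψ (se 0) * h₂⁻¹ = se 0 ^ k' := by
    refine ⟨2 ^ (j : ℕ) * (k % 23) % 23, hj, ?_⟩
    rw [← hmod, ← conj_pow_two, ← hmod, ← hk, hh₂]
    group
  -- the image of `se 1` is a twin
  set g := h₂ * ψ (se 1) * h₂⁻¹ with hgdef
  have hg1 : g * se 0 ^ k' = se 0 ^ k' * se 0 ^ k' * g := by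
    have := congrArg ψ se1_conj
    simp only [map_mul] at this
    calc g * se 0 ^ k' = h₂ * (ψ (se 1) * ψ (se 0)) * h₂⁻¹ := by rw [← e0, hgdef]; group
      _ = h₂ * (ψ (se 0) * ψ (se 0) * ψ (se 1)) * h₂⁻¹ := by rw [this]
      _ = se 0 ^ k' * se 0 ^ k' * g := by rw [← e0, hgdef]; group
  have hg : g * se 0 = se 0 * se 0 * g := by
    obtain ⟨m, hm⟩ : ∃ m, (se 0 ^ k') ^ m = se 0 := by
      rcases hk' with rfl | rfl
      · exact ⟨1, by simp⟩
      · exact ⟨14, by rw [← pow_mul, hmod]; simp⟩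
    have h' : SemiconjBy g (se 0 ^ k') (se 0 ^ k' * se 0 ^ k') := hg1
    have := (h'.pow_right m).eq
    rw [hm, ← pow_two, ← pow_mul, mul_comm 2, pow_mul, hm, pow_two] at this
    exact this
  obtain ⟨w, hw, hgw⟩ := twin_mem (a := 0) (by norm_num) hg (c := cA) (by decide) cycA_ok
    (ex := []) rfl candA_ok progA_ok goodA_ok
  obtain ⟨i, hi, rfl⟩ : ∃ i, i < 23 ∧ w = 1 :: List.replicate i 0 := by
    simp only [gA, List.mem_map, List.mem_range] at hw
    obtain ⟨i, hi, rfl⟩ := hw
    exact ⟨i, hi, rfl⟩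
  have hs := eqS_spec (rangeAll_spec shift_ok i (Nat.zero_le _) (by omega))
  rw [eval_append, eval_append, eval_replicate, ← hgw] at hs
  refine ⟨se 0 ^ i * h₂, k', hk', ?_, ?_⟩
  · rw [MulAut.mul_apply, MulAut.conj_apply]
    calc se 0 ^ i * h₂ * ψ (se 0) * (se 0 ^ i * h₂)⁻¹
        = se 0 ^ i * (h₂ * ψ (se 0) * h₂⁻¹) * (se 0 ^ i)⁻¹ := by group
      _ = se 0 ^ k' := by rw [e0, conj_pow_pow]
  · rw [MulAut.mul_apply, MulAut.conj_apply]
    calc se 0 ^ i * h₂ * ψ (se 1) * (se 0 ^ i * h₂)⁻¹ = se 0 ^ i * g * (se 0 ^ i)⁻¹ := by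
          rw [hgdef]; group
      _ = se 1 := by rw [hs]; simp [eval]
/-- a normalised automorphism is trivial -/
theorem normalised_eq_one (ψ : MulAut G) {k : ℕ} (hk : k = 1 ∨ k = 5)
    (h0 : ψ (se 0) = se 0 ^ k) (h1 : ψ (se 1) = se 1) : ψ = 1 := by
  have hg : ψ (se 2) * se 1 = se 1 * se 1 * ψ (se 2) := by
    have := congrArg ψ se2_conj
    simpa only [map_mul, h1] using this
  obtain ⟨w, hw, hz⟩ := twin_mem (a := 1) (by norm_num) hg (c := cB) (by decide) cycB_ok
    (ex := exB) exB_ok candB_ok progB_ok goodB_ok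
  obtain ⟨e, hK⟩ : ∃ e : ℕ × ℕ, killOK k (w, e) = true := by
    obtain ⟨i, hi, rfl⟩ := List.getElem_of_mem hw
    rcases hk with rfl | rfl
    · have hl : i < (gB.zip kill1).length := by
        rw [List.length_zip, kill_length.1]; omega
      refine ⟨kill1[i]'(by rw [kill_length.1]; exact hi), ?_⟩
      have := allL_spec kill1_ok _ (List.getElem_mem hl)
      rwa [List.getElem_zip] at this
    · have hl : i < (gB.zip kill5).length := by
        rw [List.length_zip, kill_length.2]; omega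
      refine ⟨kill5[i]'(by rw [kill_length.2]; exact hi), ?_⟩
      have := allL_spec kill5_ok _ (List.getElem_mem hl)
      rwa [List.getElem_zip] at this
  have hsub : ∀ a < 3, ψ (se a) = eval se (subst k w a) := fun a ha => by
    have : a = 0 ∨ a = 1 ∨ a = 2 := by omega
    rcases this with rfl | rfl | rfl
    · rw [subst, if_pos rfl, eval_replicate, h0]
    · rw [subst, if_neg (by norm_num), if_pos rfl]; simpa [eval] using h1
    · rw [subst, if_neg (by norm_num), if_neg (by norm_num), hz]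
  simp only [killOK, iteB_eq] at hK
  by_cases hwi : Nat.blt e.1 wit.length = true
  · exfalso
    simp only [hwi, cond_true, andB_eq, Bool.and_eq_true, blt_iff] at hK
    obtain ⟨hb, hl, hmove⟩ := hK
    have hW := rangeAll_spec wit_ok e.1 (Nat.zero_le _) (by have := blt_iff.mp hwi; omega)
    simp only [witOK, andB_eq, Bool.and_eq_true] at hW
    have e1 : eval se (relW e.1) = 1 := eqS_spec hW.1
    have e2 : eval se ((relW e.1).flatMap (subst k w)) = 1 := by
      rw [eval_flatMap, ← eval_congr (f := fun a => ψ (se a)) (fun a ha =>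
        hsub a (blt_iff.mp (allL_spec hW.2 a ha))), ← map_eval', e1, map_one]
    have hb' : e.2 < 31671 := by omega
    have e3 := pt_evalS (fun a ha => blt_iff.mp (allL_spec hl a ha)) hb'
    rw [e2, pt_one] at e3
    rw [← e3, Nat.beq_refl] at hmove
    exact Bool.noConfusion hmove
  · rw [Bool.not_eq_true] at hwi
    simp only [hwi, cond_false, andB_eq, Bool.and_eq_true, beq_iff] at hK
    have h2 : ψ (se 2) = se 2 := by rw [hz, eqS_spec hK.2]; simp [eval]
    have h0' : ψ (se 0) = se 0 := by rw [h0, hK.1, pow_one]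
    have : ψ.toMonoidHom = MonoidHom.id G := by
      refine MonoidHom.eq_of_eqOn_dense threeGen_eq_top ?_
      intro x hx
      rw [Set.mem_insert_iff, Set.mem_insert_iff, Set.mem_singleton_iff] at hx
      rcases hx with hx | hx | hx <;>
        rw [MonoidHom.id_apply, MulEquiv.toMonoidHom_eq_coe, MonoidHom.coe_coe, hx]
      · exact h0'
      · exact h1
      · exact h2
    exact MulEquiv.ext fun x => DFunLike.congr_fun this x

/-- the automorphism group consists of the inner automorphisms -/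
theorem card_out : Nat.card (Cfsg.Out Cfsg.Spor.Fi23) = 1 := by
  rw [← Subgroup.index, Subgroup.index_eq_one, eq_top_iff]
  intro ψ _
  obtain ⟨h, k, hk, h0, h1⟩ := exists_normalised ψ
  have := normalised_eq_one _ hk h0 h1
  exact ⟨h⁻¹, by rw [map_inv]; exact inv_eq_of_mul_eq_one_right this⟩

end Cfsg.Agent.Lib.Fi23Aut62
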